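import Cfsg.Agent.Lib.Perm.Groups.SylowTwoMax.One

/-!
# The alternating groups
-/

set_option autoImplicit false
set_option linter.all false

namespace CfsgLib.Perm.Groups.SylowTwoMax

open Equiv MulAction
open scoped Pointwise Nat
open CfsgLib.Perm.Groups.PartitionAlt

variable {Ω : Type*} [Fintype Ω] [DecidableEq Ω]

theorem uniqMax_alt {a : ℕ} (ha : 2 ≤ a) (hn : Fintype.card Ω = 2 ^ a + 1) (R : Sylow 2 (alternatingGroup Ω)) :
    UniqMax (R : Subgroup (alternatingGroup Ω)) := by
  have h4 : 4 ≤ 2 ^ a := by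
    calc 4 = 2 ^ 2 := rfl
      _ ≤ 2 ^ a := Nat.pow_le_pow_right two_pos ha
  haveI : Nontrivial Ω := Fintype.one_lt_card_iff_nontrivial.1 (by omega)
  obtain ⟨S, hS⟩ := (R.isPGroup'.map (alternatingGroup Ω).subtype).exists_le_sylow
  have hRS : (R : Subgroup (alternatingGroup Ω)) = (S : Subgroup (Perm Ω)).subgroupOf (alternatingGroup Ω) := by
    refine (R.is_maximal' ?_ (fun r hr => hS ⟨r, hr, rfl⟩)).symm
    exact S.isPGroup'.comap_of_injective _ Subtype.val_injective
  obtain ⟨ω, hfix, hpart, hun, hmove⟩ := sylow_data ha hn S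
  have hmem : ∀ g : alternatingGroup Ω,
      g ∈ stabilizer (alternatingGroup Ω) (({ω} : Finset Ω) : Set Ω) ↔ (g : Perm Ω) ω = ω := by
    intro g
    rw [stab_alt_eq, Subgroup.mem_subgroupOf, mem_stab]
    constructor
    · intro h
      have := (h ω).2 (Finset.mem_singleton_self ω)
      simpa using this
    · intro h w
      simp only [Finset.mem_singleton, Perm.smul_def]
      exact ⟨fun e => (g : Perm Ω).injective (e.trans h.symm), fun e => e ▸ h⟩
  have hco := (stab_coatom ({ω} : Finset Ω) (by simp) (by simp; omega) (by simp; omega)).2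
  refine ⟨stabilizer (alternatingGroup Ω) (({ω} : Finset Ω) : Set Ω), ⟨hco, fun r hr => (hmem r).2 ?_⟩, ?_⟩
  · rw [hRS] at hr
    exact hfix _ hr
  rintro M ⟨hM, hRM⟩
  by_cases h : ∀ m ∈ M, (m : Perm Ω) ω = ω
  · exact ((hM.le_iff.1 (fun m hm => (hmem m).2 (h m hm))).resolve_left hco.1).symm
  push Not at h
  obtain ⟨m, hm, hmω⟩ := h
  exfalso
  set K := M.map (alternatingGroup Ω).subtype with hK
  have hSK : (S : Subgroup (Perm Ω)) ⊓ alternatingGroup Ω ≤ K := by
    rintro s ⟨hs, hsA⟩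
    refine ⟨⟨s, hsA⟩, hRM ?_, rfl⟩
    rw [hRS]; exact hs
  have hmoveS : ∀ x y, x ≠ ω → y ≠ ω → ∃ r ∈ (S : Subgroup (Perm Ω)) ⊓ alternatingGroup Ω, r x = y :=
    fun x y hx hy => by
      obtain ⟨r, hr, hrA, hrx⟩ := hmove x y hx hy
      exact ⟨r, ⟨hr, hrA⟩, hrx⟩
  have hprim := primitive_of_moving (S := (S : Subgroup (Perm Ω)) ⊓ alternatingGroup Ω)
    (fun r hr => hfix r hr.1) hmoveS hSK (m := (m : Perm Ω)) ⟨m, hm, rfl⟩ hmω
  rcases (show 9 ≤ Fintype.card Ω ∨ a = 2 by
    rcases Nat.lt_or_ge a 3 with h | h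
    · exact Or.inr (by omega)
    · left
      have : 2 ^ 3 ≤ 2 ^ a := Nat.pow_le_pow_right two_pos h
      omega) with h9 | rfl
  · have hle : alternatingGroup Ω ≤ K := alt_le_of_pairs h9 hfix hpart hun hprim
      fun u v u' v' huv huv' hs hs' => hSK ⟨Subgroup.mul_mem _ hs hs', Perm.mem_alternatingGroup.2 (by
        rw [map_mul, Perm.sign_swap huv, Perm.sign_swap huv']; decide)⟩
    refine hM.1 (eq_top_iff.2 fun g _ => ?_)
    obtain ⟨g', hg', e⟩ := hle g.2
    rwa [show g = g' from Subtype.ext e.symm]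
  · have h5 : Fintype.card Ω = 5 := by rw [hn]; norm_num
    haveI : IsSimpleGroup (alternatingGroup Ω) :=
      alternatingGroup.isSimpleGroup (by rw [Nat.card_eq_fintype_card, h5])
    haveI := hprim.toIsPretransitive
    have h2A : 2 * Nat.card (alternatingGroup Ω) = 120 := by
      rw [two_mul_nat_card_alternatingGroup, Nat.card_perm, Nat.card_eq_fintype_card, h5]; rfl
    have hA60 : Nat.card (alternatingGroup Ω) = 60 := by omega
    have h5K : 5 ∣ Nat.card M := by
      have e := MulAction.index_stabilizer_of_transitive (G := K) (x := ω)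
      rw [Nat.card_eq_fintype_card, h5] at e
      have h1 : 5 ∣ Nat.card K := e ▸ Subgroup.index_dvd_card _
      rwa [hK, Subgroup.card_map_of_injective Subtype.val_injective] at h1
    have h4M : 4 ∣ Nat.card M := by
      refine dvd_trans ?_ (Subgroup.card_dvd_of_le hRM)
      have h1 := Subgroup.index_mul_card (R : Subgroup (alternatingGroup Ω))
      rw [hA60] at h1
      have hno : ¬ 2 ∣ (R : Subgroup (alternatingGroup Ω)).index := R.not_dvd_index
      refine (Nat.Coprime.pow_left 2 ((Nat.prime_two.coprime_iff_not_dvd).2 hno)).dvd_of_dvd_mul_left (k := 2 ^ 2) ?_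
      rw [h1]; norm_num
    have h20 : 20 ∣ Nat.card M := Nat.Coprime.mul_dvd_of_dvd_of_dvd (by norm_num : Nat.Coprime 4 5) h4M h5K
    have hi := Subgroup.index_mul_card M
    obtain ⟨k, hk⟩ := h20
    rw [hA60, hk] at hi
    have hi3 : M.index ≤ 3 := by
      have hk1 : 1 ≤ k := Nat.one_le_iff_ne_zero.2 fun h => by subst h; simp at hi
      have h20' : M.index * 20 ≤ M.index * (20 * k) := Nat.mul_le_mul_left _ (by omega)
      omega
    have h1 := card_dvd_factorial_of_simple hM.1
    rw [hA60] at h1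
    interval_cases M.index <;> norm_num [Nat.factorial] at h1

theorem not_uniqMax_alt_eight (h8 : Fintype.card Ω = 8) (R : Sylow 2 (alternatingGroup Ω)) :
    ¬ UniqMax (R : Subgroup (alternatingGroup Ω)) := by
  haveI : Nontrivial Ω := Fintype.one_lt_card_iff_nontrivial.1 (by omega)
  haveI : IsSimpleGroup (alternatingGroup Ω) :=
    alternatingGroup.isSimpleGroup (by rw [Nat.card_eq_fintype_card, h8]; norm_num)
  have h2A : 2 * Nat.card (alternatingGroup Ω) = 40320 := by
    rw [two_mul_nat_card_alternatingGroup, Nat.card_perm, Nat.card_eq_fintype_card, h8]; rfl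
  have hA : Nat.card (alternatingGroup Ω) = 20160 := by omega
  obtain ⟨f₀, hf₀⟩ := exists_blocks (Ω := Ω) 2 4 h8
  have ho : Odd (wr f₀).index := index_wr_odd f₀ 2 (by norm_num) hf₀ (by rw [h8]; exact val_pairs 4)
  obtain ⟨σ, hσ⟩ := exists_conj_le R.isPGroup'
    (M := (wr f₀).subgroupOf (alternatingGroup Ω)) (by rw [alt_index_eq ho]; exact ho.not_two_dvd_nat)
  set f := f₀ ∘ ((σ : Perm Ω)⁻¹ : Perm Ω) with hfdef
  have hf : ∀ i, Nat.card {x : Ω // f x = i} = 2 := fun i => fibre_comp f₀ _ hf₀ i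
  have hRf : (R : Subgroup (alternatingGroup Ω)) ≤ (wr f).subgroupOf (alternatingGroup Ω) := by
    intro r hr
    obtain ⟨y, hy, rfl⟩ := hσ hr
    rw [Subgroup.mem_subgroupOf, hfdef, wr_conj]
    have hy' : (y : Perm Ω) ∈ wr f₀ := hy
    simpa [mul_assoc] using hy'
  have hsurj : ∀ i, ∃ x, f x = i := fun i => by
    obtain ⟨⟨x, hx⟩⟩ : Nonempty {x : Ω // f x = i} := (Nat.card_pos_iff.1 (by rw [hf]; norm_num)).1
    exact ⟨x, hx⟩
  let T : Subgroup (Perm (Fin 4)) :=
    { carrier := {t | ∃ r ∈ (R : Subgroup (alternatingGroup Ω)), ∀ z, f ((r : Perm Ω) z) = t (f z)}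
      mul_mem' := by
        rintro t t' ⟨r, hr, hrt⟩ ⟨r', hr', hrt'⟩
        exact ⟨r * r', Subgroup.mul_mem _ hr hr', fun z => by
          rw [Subgroup.coe_mul, Perm.mul_apply, hrt, hrt', Perm.mul_apply]⟩
      one_mem' := ⟨1, Subgroup.one_mem _, fun z => rfl⟩
      inv_mem' := by
        rintro t ⟨r, hr, hrt⟩
        refine ⟨r⁻¹, Subgroup.inv_mem _ hr, fun z => ?_⟩
        rw [Perm.coe_inv, Equiv.eq_symm_apply, ← hrt]
        exact congrArg f ((r : Perm Ω).apply_symm_apply z) }
  have hT : IsPGroup 2 T := by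
    rintro ⟨t, r, hr, hrt⟩
    obtain ⟨k, hk⟩ := R.isPGroup' ⟨r, hr⟩
    refine ⟨k, Subtype.ext (Equiv.ext fun i => ?_)⟩
    obtain ⟨z, rfl⟩ := hsurj i
    have hpow : ∀ m : ℕ, ∀ z, f (((r : Perm Ω) ^ m) z) = (t ^ m) (f z) := fun m => by
      induction m with
      | zero => intro z; rfl
      | succ m ih => intro z; rw [pow_succ', Perm.mul_apply, hrt, ih, pow_succ', Perm.mul_apply]
    have h1 : ((r : Perm Ω) ^ (2 ^ k)) = 1 := by
      have := congrArg (fun u => ((u : alternatingGroup Ω) : Perm Ω)) (congrArg Subtype.val hk)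
      simpa using this
    have h2 := hpow (2 ^ k) z
    rw [h1] at h2
    simpa using h2.symm
  obtain ⟨g₀, hg₀⟩ := exists_blocks (Ω := Fin 4) 2 2 (by simp)
  have ho' : Odd (wr g₀).index :=
    index_wr_odd g₀ 2 (by norm_num) hg₀ (by rw [Fintype.card_fin]; exact val_pairs 2)
  obtain ⟨τ, hτ⟩ := exists_conj_le hT (M := wr g₀) ho'.not_two_dvd_nat
  set g := g₀ ∘ (τ⁻¹ : Perm (Fin 4)) with hgdef
  have hg : ∀ i, Nat.card {x : Fin 4 // g x = i} = 2 := fun i => fibre_comp g₀ _ hg₀ i
  have hTg : T ≤ wr g := by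
    intro t ht
    obtain ⟨y, hy, rfl⟩ := hτ ht
    rw [hgdef, wr_conj]
    have hy' : y ∈ wr g₀ := hy
    simpa [mul_assoc] using hy'
  set q := g ∘ f with hqdef
  have hq : ∀ i, Nat.card {x : Ω // q x = i} = 4 := by
    intro i
    rw [Nat.card_eq_fintype_card, Fintype.card_subtype]
    simp only [hqdef, Function.comp_apply]
    rw [
      Finset.card_eq_sum_card_fiberwise (f := f) (t := Finset.univ.filter fun j => g j = i)
        (fun x hx => Finset.mem_filter.2 ⟨Finset.mem_univ _, (Finset.mem_filter.1 hx).2⟩),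
      Finset.sum_congr rfl (g := fun _ => 2) fun j hj => ?_, Finset.sum_const]
    · rw [← Fintype.card_subtype, ← Nat.card_eq_fintype_card, hg]; rfl
    · have hj' : g j = i := (Finset.mem_filter.1 hj).2
      have h2 := hf j
      rw [Nat.card_eq_fintype_card, Fintype.card_subtype] at h2
      refine Eq.trans ?_ h2
      congr 1
      ext x
      simp only [Finset.mem_filter, Finset.mem_univ, true_and, hqdef, Function.comp_apply]
      exact ⟨fun h => h.2, fun h => ⟨by rw [h, hj'], h⟩⟩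
  have hRq : (R : Subgroup (alternatingGroup Ω)) ≤ (wr q).subgroupOf (alternatingGroup Ω) := by
    intro r hr x y
    have hw : ∀ z w, f z = f w ↔ f ((r : Perm Ω) z) = f ((r : Perm Ω) w) := hRf hr
    choose s hs using hsurj
    let t : Perm (Fin 4) := Equiv.ofBijective (fun i => f ((r : Perm Ω) (s i)))
      (Finite.injective_iff_bijective.1 fun i j h => by
        have := (hw (s i) (s j)).2 h
        rwa [hs, hs] at this)
    have htz : ∀ z, f ((r : Perm Ω) z) = t (f z) := fun z => ((hw z (s (f z))).1 (hs _).symm)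
    have htg : t ∈ wr g := hTg ⟨r, hr, htz⟩
    show g (f x) = g (f y) ↔ g (f ((r : Perm Ω) x)) = g (f ((r : Perm Ω) y))
    rw [htz, htz]
    exact htg (f x) (f y)
  have hneP : (wr f).subgroupOf (alternatingGroup Ω) ≠ ⊤ ∧ (wr f).index = 105 := by
    have h1 := Subgroup.index_mul_card (wr f)
    rw [card_wr f 2 (by norm_num) hf, Nat.card_perm, Nat.card_eq_fintype_card, h8,
      show (8 ! : ℕ) = 40320 from rfl, show ((2 ! : ℕ) ^ 4 * 4 !) = 384 from rfl] at h1
    have h2 : (wr f).index = 105 := by omega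
    refine ⟨fun e => ?_, h2⟩
    have := alt_index_eq (H := wr f) (by rw [h2]; decide)
    rw [e, Subgroup.index_top, h2] at this
    omega
  have hneH : (wr q).subgroupOf (alternatingGroup Ω) ≠ ⊤ ∧ (wr q).index = 35 := by
    have h1 := Subgroup.index_mul_card (wr q)
    rw [card_wr q 4 (by norm_num) hq, Nat.card_perm, Nat.card_eq_fintype_card, h8,
      show (8 ! : ℕ) = 40320 from rfl, show ((4 ! : ℕ) ^ 2 * 2 !) = 1152 from rfl] at h1
    have h2 : (wr q).index = 35 := by omega
    refine ⟨fun e => ?_, h2⟩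
    have := alt_index_eq (H := wr q) (by rw [h2]; decide)
    rw [e, Subgroup.index_top, h2] at this
    omega
  refine not_uniqMax_of_join hneP.1 hneH.1 hRf hRq ?_
  set J := (wr f).subgroupOf (alternatingGroup Ω) ⊔ (wr q).subgroupOf (alternatingGroup Ω) with hJ
  by_contra hJtop
  have hJd : J.index ∣ 35 := by
    have := Subgroup.index_dvd_of_le (le_sup_right : (wr q).subgroupOf (alternatingGroup Ω) ≤ J)
    rwa [alt_index_eq (by rw [hneH.2]; decide), hneH.2] at this
  have hfac := card_dvd_factorial_of_simple hJtop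
  rw [hA] at hfac
  have h35 : J.index = 35 := by
    have : J.index ∈ Nat.divisors 35 := Nat.mem_divisors.2 ⟨hJd, by norm_num⟩
    rw [show Nat.divisors 35 = {1, 5, 7, 35} by decide] at this
    simp only [Finset.mem_insert, Finset.mem_singleton] at this
    rcases this with h | h | h | h
    · exact absurd (Subgroup.index_eq_one.1 h) hJtop
    · rw [h] at hfac; norm_num [Nat.factorial] at hfac
    · rw [h] at hfac; norm_num [Nat.factorial] at hfac
    · exact h
  have hJH : J ≤ (wr q).subgroupOf (alternatingGroup Ω) := by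
    rw [← Subgroup.relIndex_eq_one]
    have h1 := Subgroup.relIndex_mul_index (le_sup_right : (wr q).subgroupOf (alternatingGroup Ω) ≤ J)
    rw [h35, alt_index_eq (by rw [hneH.2]; decide), hneH.2] at h1
    exact Nat.eq_of_mul_eq_mul_right (by norm_num : 0 < 35) (h1.trans (one_mul 35).symm)
  -- an element of `P` outside `H`
  obtain ⟨⟨i, hi⟩, ⟨j, hj⟩, hij⟩ : Nontrivial {x : Fin 4 // g x = 0} :=
    Finite.one_lt_card_iff_nontrivial.1 (by rw [hg]; norm_num)
  obtain ⟨⟨l, hl⟩⟩ : Nonempty {x : Fin 4 // g x = 1} := (Nat.card_pos_iff.1 (by rw [hg]; norm_num)).1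
  obtain ⟨x, hx⟩ := hsurj i
  obtain ⟨y, hy⟩ := hsurj j
  have hij' : i ≠ j := fun e => hij (Subtype.ext e)
  have hil : i ≠ l := fun e => by rw [e, hl] at hi; exact absurd hi (by decide)
  obtain ⟨e, he, heA, -, hef⟩ := exists_even_lift f le_rfl (by norm_num) hf (swap j l) (x := x) (y := x)
    (by rw [hx, swap_apply_of_ne_of_ne hij' hil])
  have h1 : (⟨e, heA⟩ : alternatingGroup Ω) ∈ (wr q).subgroupOf (alternatingGroup Ω) :=
    hJH (le_sup_left (a := (wr f).subgroupOf (alternatingGroup Ω)) he)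
  have h2 := (show e ∈ wr q from h1) x y
  simp only [hqdef, Function.comp_apply, hef, hx, hy, swap_apply_of_ne_of_ne hij' hil, swap_apply_left, hi, hj, hl] at h2
  exact absurd (h2.1 trivial) (by decide)

end CfsgLib.Perm.Groups.SylowTwoMax
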