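import Cfsg.Agent.Lib.Perm.Groups.PartitionStabAlt

/-!
# Subgroups of odd index in symmetric and alternating groups
-/

set_option autoImplicit false
set_option linter.all false

namespace CfsgLib.Perm.Groups.SylowTwoMax

open Equiv MulAction
open scoped Pointwise Nat
open CfsgLib.Perm.Groups.PartitionAlt

/-- the statement that a subgroup lies in a unique maximal subgroup -/
def UniqMax {G : Type*} [Group G] (R : Subgroup G) : Prop := ∃! M : Subgroup G, IsCoatom M ∧ R ≤ M

theorem exists_conj_le {G : Type*} [Group G] [Finite G] {p : ℕ} [hp : Fact p.Prime] {R : Subgroup G}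
    (hR : IsPGroup p R) {M : Subgroup G} (hM : ¬ p ∣ M.index) :
    ∃ g : G, R ≤ M.map (MulAut.conj g).toMonoidHom := by
  obtain ⟨x, hx⟩ := hR.nonempty_fixed_point_of_prime_not_dvd_card (G ⧸ M) hM
  induction x using QuotientGroup.induction_on with
  | _ g =>
    refine ⟨g, fun r hr => ⟨g⁻¹ * r * g, ?_, ?_⟩⟩
    · have h1 : (QuotientGroup.mk (r * g) : G ⧸ M) = QuotientGroup.mk g := hx ⟨r, hr⟩
      rw [QuotientGroup.eq] at h1
      have := M.inv_mem h1
      simpa [mul_assoc] using this
    · simp [mul_assoc]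

theorem isCoatom_conj {G : Type*} [Group G] {M : Subgroup G} (hM : IsCoatom M) (g : G) :
    IsCoatom (M.map (MulAut.conj g).toMonoidHom) :=
  (OrderIso.isCoatom_iff (MulEquiv.mapSubgroup (MulAut.conj g)) M).2 hM

theorem not_uniqMax_of_coatoms {G : Type*} [Group G] [Finite G] (R : Sylow 2 G) {M₁ M₂ : Subgroup G}
    (h₁ : IsCoatom M₁) (h₂ : IsCoatom M₂) (o₁ : Odd M₁.index) (o₂ : Odd M₂.index)
    (hne : ∀ g h : G, M₁.map (MulAut.conj g).toMonoidHom ≠ M₂.map (MulAut.conj h).toMonoidHom) :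
    ¬ UniqMax (R : Subgroup G) := by
  rintro ⟨M, -, hu⟩
  obtain ⟨g, hg⟩ := exists_conj_le R.isPGroup' (o₁.not_two_dvd_nat)
  obtain ⟨h, hh⟩ := exists_conj_le R.isPGroup' (o₂.not_two_dvd_nat)
  exact hne g h ((hu _ ⟨isCoatom_conj h₁ g, hg⟩).trans (hu _ ⟨isCoatom_conj h₂ h, hh⟩).symm)

theorem not_uniqMax_of_join {G : Type*} [Group G] [Finite G] {R L₁ L₂ : Subgroup G}
    (h₁ : L₁ ≠ ⊤) (h₂ : L₂ ≠ ⊤) (r₁ : R ≤ L₁) (r₂ : R ≤ L₂) (hj : L₁ ⊔ L₂ = ⊤) : ¬ UniqMax R := by
  rintro ⟨M, ⟨hM, -⟩, hu⟩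
  obtain ⟨A, hA, hA'⟩ := (eq_top_or_exists_le_coatom L₁).resolve_left h₁
  obtain ⟨B, hB, hB'⟩ := (eq_top_or_exists_le_coatom L₂).resolve_left h₂
  have e₁ := hu A ⟨hA, r₁.trans hA'⟩
  have e₂ := hu B ⟨hB, r₂.trans hB'⟩
  exact hM.1 (top_le_iff.1 (hj ▸ sup_le (e₁ ▸ hA') (e₂ ▸ hB')))

theorem card_dvd_factorial_of_simple {G : Type*} [Group G] [Finite G] [IsSimpleGroup G] {H : Subgroup G}
    (hH : H ≠ ⊤) : Nat.card G ∣ (H.index)! := by
  have hinj : Function.Injective (MulAction.toPermHom G (G ⧸ H)) := by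
    rw [← MonoidHom.ker_eq_bot_iff, ← Subgroup.normalCore_eq_ker]
    refine (Subgroup.normalCore_normal H).eq_bot_or_eq_top.resolve_right fun h => hH ?_
    exact top_le_iff.1 (h ▸ H.normalCore_le)
  have h1 := Subgroup.card_dvd_of_injective _ hinj
  rwa [Nat.card_perm, ← Subgroup.index_eq_card] at h1

variable {Ω : Type*} [Fintype Ω] [DecidableEq Ω]

theorem alt_index_eq [Nontrivial Ω] {H : Subgroup (Perm Ω)} (hH : Odd H.index) :
    (H.subgroupOf (alternatingGroup Ω)).index = H.index := by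
  have h2 : (alternatingGroup Ω).index = 2 := alternatingGroup.index_eq_two
  have e1 : (H ⊓ alternatingGroup Ω).index = H.relIndex (alternatingGroup Ω) * 2 := by
    rw [← Subgroup.relIndex_mul_index (inf_le_right : H ⊓ alternatingGroup Ω ≤ alternatingGroup Ω),
      Subgroup.inf_relIndex_right, h2]
  have e2 : (H ⊓ alternatingGroup Ω).index = (alternatingGroup Ω).relIndex H * H.index := by
    rw [← Subgroup.relIndex_mul_index (inf_le_left : H ⊓ alternatingGroup Ω ≤ H), inf_comm,
      Subgroup.inf_relIndex_right]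
  have hd : (alternatingGroup Ω).relIndex H ∣ 2 := h2 ▸ Subgroup.relIndex_dvd_index_of_normal _ _
  have h : H.relIndex (alternatingGroup Ω) * 2 = (alternatingGroup Ω).relIndex H * H.index := e1 ▸ e2
  rcases (Nat.dvd_prime Nat.prime_two).1 hd with hd | hd
  · rw [hd, one_mul] at h
    exact absurd ⟨H.relIndex (alternatingGroup Ω), by omega⟩ hH.not_two_dvd_nat
  · rw [hd] at h
    show H.relIndex (alternatingGroup Ω) = H.index
    omega

/-! ### the stabiliser of a set -/

theorem index_stab (s : Finset Ω) :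
    (stabilizer (Perm Ω) (s : Set Ω)).index = (Fintype.card Ω).choose s.card := by
  have hc : Nat.card (stabilizer (Perm Ω) (s : Set Ω)) = s.card ! * (Fintype.card Ω - s.card)! := by
    have e : stabilizer (Perm Ω) (s : Set Ω) ≃ {g : Perm Ω // (fun x => decide (x ∈ s)) ∘ g = fun x => decide (x ∈ s)} := by
      refine Equiv.subtypeEquivRight fun g => ?_
      rw [mem_stabilizer_set]
      simp [funext_iff]
    rw [Nat.card_congr e, Nat.card_eq_fintype_card, DomMulAct.stabilizer_card, Fintype.univ_bool,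
      Finset.prod_insert (by simp), Finset.prod_singleton]
    congr 1
    · congr 1; simp [Fintype.card_subtype]
    · congr 1
      rw [Fintype.card_subtype]
      simp [Finset.filter_not, Finset.card_sdiff, Finset.card_univ]
  have h1 := Subgroup.index_mul_card (stabilizer (Perm Ω) (s : Set Ω))
  rw [hc, Nat.card_perm, Nat.card_eq_fintype_card] at h1
  have h2 := Nat.choose_mul_factorial_mul_factorial (Finset.card_le_univ s)
  rw [mul_assoc] at h2
  exact Nat.eq_of_mul_eq_mul_right (by positivity) (h1.trans h2.symm)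

/-! ### the stabiliser of a uniform partition -/

variable {b : ℕ}

theorem exists_lift (f : Ω → Fin b) (a : ℕ) (hf : ∀ i, Nat.card {x : Ω // f x = i} = a) (σ : Perm (Fin b)) :
    ∃ g : Perm Ω, ∀ x, f (g x) = σ (f x) := by
  let e : ∀ i, {x : Ω // f x = i} ≃ {x : Ω // f x = σ i} := fun i =>
    Fintype.equivOfCardEq (by rw [← Nat.card_eq_fintype_card, ← Nat.card_eq_fintype_card, hf, hf])
  refine ⟨((Equiv.sigmaFiberEquiv f).symm.trans (Equiv.sigmaCongr σ e)).trans (Equiv.sigmaFiberEquiv f), fun x => ?_⟩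
  exact (e (f x) ⟨x, rfl⟩).2

theorem card_wr (f : Ω → Fin b) (a : ℕ) (ha : 1 ≤ a) (hf : ∀ i, Nat.card {x : Ω // f x = i} = a) :
    Nat.card (wr f) = a ! ^ b * b ! := by
  have hne : ∀ i, ∃ x, f x = i := fun i => by
    obtain ⟨⟨x, hx⟩⟩ : Nonempty {x : Ω // f x = i} := (Nat.card_pos_iff.1 (by rw [hf]; omega)).1
    exact ⟨x, hx⟩
  choose s hs using hne
  have key : ∀ g ∈ wr f, ∀ x, f (g x) = f (g (s (f x))) := fun g hg x =>
    ((hg x (s (f x))).1 (hs _).symm)
  let bm : wr f → Perm (Fin b) := fun g =>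
    { toFun := fun i => f ((g : Perm Ω) (s i))
      invFun := fun i => f ((g : Perm Ω)⁻¹ (s i))
      left_inv := fun i => by
        show f ((g : Perm Ω)⁻¹ (s (f ((g : Perm Ω) (s i))))) = i
        rw [← key _ ((wr f).inv_mem g.2), Perm.coe_inv, Equiv.symm_apply_apply, hs]
      right_inv := fun i => by
        show f ((g : Perm Ω) (s (f ((g : Perm Ω)⁻¹ (s i))))) = i
        rw [← key _ g.2, Perm.coe_inv, Equiv.apply_symm_apply, hs] }
  have hbm : ∀ (g : wr f) x, bm g (f x) = f ((g : Perm Ω) x) := fun g x => (key _ g.2 x).symm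
  let bh : wr f →* Perm (Fin b) :=
    { toFun := bm
      map_one' := Equiv.ext fun i => hs i
      map_mul' := fun g h => Equiv.ext fun i => by
        show f ((g : Perm Ω) ((h : Perm Ω) (s i))) = bm g (bm h i)
        exact (hbm g _).symm }
  have hsurj : Function.Surjective bh := fun σ => by
    obtain ⟨g, hg⟩ := exists_lift f a hf σ
    refine ⟨⟨g, fun x y => ?_⟩, Equiv.ext fun i => ?_⟩
    · rw [hg, hg, σ.injective.eq_iff]
    · show f (g (s i)) = σ i
      rw [hg, hs]
  have hker : bh.ker ≃ {g : Perm Ω // f ∘ g = f} :=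
    { toFun := fun g => ⟨((g : wr f) : Perm Ω), funext fun x => by
        have h1 := congrArg (fun σ : Perm (Fin b) => σ (f x)) (MonoidHom.mem_ker.1 g.2)
        exact (hbm g.1 x).symm.trans h1⟩
      invFun := fun g => ⟨⟨g.1, fun x y => by
          have h1 := congrFun g.2 x; have h2 := congrFun g.2 y
          simp only [Function.comp_apply] at h1 h2
          rw [h1, h2]⟩,
        MonoidHom.mem_ker.2 (Equiv.ext fun i => by
          show f (g.1 (s i)) = i
          have h1 := congrFun g.2 (s i)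
          simp only [Function.comp_apply] at h1
          rw [h1, hs])⟩
      left_inv := fun g => rfl
      right_inv := fun g => rfl }
  rw [Subgroup.card_eq_card_quotient_mul_card_subgroup bh.ker,
    Nat.card_congr (QuotientGroup.quotientKerEquivOfSurjective bh hsurj).toEquiv, Nat.card_congr hker,
    Nat.card_eq_fintype_card (α := {g : Perm Ω // f ∘ g = f}), DomMulAct.stabilizer_card, Nat.card_perm,
    Nat.card_eq_fintype_card, Fintype.card_fin, mul_comm]
  congr 1
  rw [Finset.prod_congr rfl (fun i _ => show (Fintype.card {x // f x = i}).factorial = a.factorial by rw [← Nat.card_eq_fintype_card, hf]), Finset.prod_const, Finset.card_univ, Fintype.card_fin]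

theorem index_wr_odd (f : Ω → Fin b) (a : ℕ) (ha : 1 ≤ a) (hf : ∀ i, Nat.card {x : Ω // f x = i} = a)
    (hv : padicValNat 2 (Fintype.card Ω)! = padicValNat 2 (a ! ^ b * b !)) : Odd (wr f).index := by
  have h1 := Subgroup.index_mul_card (wr f)
  rw [card_wr f a ha hf, Nat.card_perm, Nat.card_eq_fintype_card] at h1
  have hi : (wr f).index ≠ 0 := Subgroup.index_ne_zero_of_finite
  have h2 := congrArg (padicValNat 2) h1
  rw [padicValNat.mul hi (by positivity), hv] at h2
  rw [Nat.odd_iff]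
  by_contra hc
  have h3 : 2 ∣ (wr f).index := by omega
  have := one_le_padicValNat_of_dvd hi h3
  omega

theorem val_pairs (b : ℕ) : padicValNat 2 (2 * b)! = padicValNat 2 (2 ! ^ b * b !) := by
  rw [padicValNat_factorial_mul, padicValNat.mul (by positivity) (by positivity), Nat.factorial_two,
    padicValNat.prime_pow]
  omega

theorem val_quads (b : ℕ) : padicValNat 2 (4 * b)! = padicValNat 2 (4 ! ^ b * b !) := by
  rw [show 4 * b = 2 * (2 * b) by ring, padicValNat_factorial_mul, padicValNat_factorial_mul,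
    show (4 ! : ℕ) = 2 ^ 3 * 3 by decide, mul_pow, ← pow_mul,
    padicValNat.mul (by positivity) (by positivity), padicValNat.mul (by positivity) (by positivity),
    padicValNat.prime_pow]
  have : padicValNat 2 (3 ^ b) = 0 := padicValNat.eq_zero_of_not_dvd fun h => by
    have := Nat.prime_two.dvd_of_dvd_pow h
    omega
  omega

theorem exists_blocks (a b : ℕ) (h : Fintype.card Ω = a * b) :
    ∃ f : Ω → Fin b, ∀ i, Nat.card {x : Ω // f x = i} = a := by
  let e : Ω ≃ Fin b × Fin a := Fintype.equivOfCardEq (by simp [h, mul_comm])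
  refine ⟨fun x => (e x).1, fun i => ?_⟩
  have e' : {x : Ω // (e x).1 = i} ≃ Fin a :=
    { toFun := fun x => (e x.1).2
      invFun := fun j => ⟨e.symm (i, j), by simp⟩
      left_inv := fun x => Subtype.ext (e.injective (by
        rw [Equiv.apply_symm_apply]; exact Prod.ext x.2.symm rfl))
      right_inv := fun j => by simp }
  rw [Nat.card_congr e', Nat.card_eq_fintype_card, Fintype.card_fin]

/-- an even element preserving the partition with a prescribed action on blocks and on a point -/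
theorem exists_even_lift (f : Ω → Fin b) {a : ℕ} (ha : 2 ≤ a) (hb : 2 ≤ b)
    (hf : ∀ i, Nat.card {x : Ω // f x = i} = a) (σ : Perm (Fin b)) {x y : Ω} (hxy : σ (f x) = f y) :
    ∃ g ∈ wr f, g ∈ alternatingGroup Ω ∧ g x = y ∧ ∀ z, f (g z) = σ (f z) := by
  obtain ⟨g, hg⟩ := exists_lift f a hf σ
  have hgw : g ∈ wr f := fun u v => by rw [hg, hg, σ.injective.eq_iff]
  set g' := swap (g x) y * g with hg'
  have hsx : f (g x) = f y := by rw [hg, hxy]
  have hfix : ∀ (p q : Ω), f p = f q → ∀ z, f (swap p q z) = f z := fun p q hpq z => by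
    rcases eq_or_ne z p with rfl | h1
    · rw [swap_apply_left, hpq]
    rcases eq_or_ne z q with rfl | h2
    · rw [swap_apply_right, hpq]
    rw [swap_apply_of_ne_of_ne h1 h2]
  have hg'f : ∀ z, f (g' z) = σ (f z) := fun z => by rw [hg', Perm.mul_apply, hfix _ _ hsx, hg]
  have hg'x : g' x = y := by rw [hg', Perm.mul_apply, swap_apply_left]
  have hg'w : g' ∈ wr f := fun u v => by rw [hg'f, hg'f, σ.injective.eq_iff]
  rcases Int.units_eq_one_or (Perm.sign g') with hs | hs
  · exact ⟨g', hg'w, Perm.mem_alternatingGroup.2 hs, hg'x, hg'f⟩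
  · haveI : Nontrivial (Fin b) := Fin.nontrivial_iff_two_le.2 hb
    obtain ⟨i, hi⟩ := exists_ne (f y)
    obtain ⟨⟨p, hp⟩, ⟨q, hq⟩, hpq⟩ : Nontrivial {z : Ω // f z = i} :=
      Finite.one_lt_card_iff_nontrivial.1 (by rw [hf]; omega)
    have hpq' : p ≠ q := fun h => hpq (Subtype.ext h)
    refine ⟨swap p q * g', (wr f).mul_mem (swap_mem (hp.trans hq.symm)) hg'w, ?_, ?_, fun z => ?_⟩
    · rw [Perm.mem_alternatingGroup, map_mul, Perm.sign_swap hpq', hs]; rfl
    · rw [Perm.mul_apply, hg'x, swap_apply_of_ne_of_ne (fun h => hi (by rw [h, hp]))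
        (fun h => hi (by rw [h, hq]))]
    · rw [Perm.mul_apply, hfix _ _ (hp.trans hq.symm), hg'f]

/-- an even element preserving `g` but not `f` -/
theorem exists_even_sep {c : ℕ} (f : Ω → Fin b) (g : Ω → Fin c) (hc : 2 ≤ c)
    (hf : ∀ i, Nat.card {x : Ω // f x = i} = 2) (hg : ∀ i, Nat.card {x : Ω // g x = i} = 4) :
    ∃ h ∈ wr g, h ∈ alternatingGroup Ω ∧ h ∉ wr f := by
  obtain ⟨x⟩ : Nonempty Ω := by
    obtain ⟨⟨x, -⟩⟩ : Nonempty {x : Ω // g x = ⟨0, by omega⟩} := (Nat.card_pos_iff.1 (by rw [hg]; omega)).1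
    exact ⟨x⟩
  have big : ∀ (i : Fin c) (T : Finset Ω), T.card < 4 → ∃ y, g y = i ∧ y ∉ T := fun i T hT => by
    have hA : (Finset.univ.filter fun y => g y = i).card = 4 := by
      rw [← Fintype.card_subtype, ← Nat.card_eq_fintype_card, hg]
    obtain ⟨y, hy, hy'⟩ := Finset.exists_mem_notMem_of_card_lt_card (hA ▸ hT)
    exact ⟨y, (Finset.mem_filter.1 hy).2, hy'⟩
  -- the partner of `x`
  have hA : (Finset.univ.filter fun y => f y = f x).card = 2 := by
    rw [← Fintype.card_subtype, ← Nat.card_eq_fintype_card, hf]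
  obtain ⟨z, hz, hzx⟩ := Finset.exists_mem_ne (by omega : 1 < (Finset.univ.filter fun y => f y = f x).card) x
  have hfz : f z = f x := (Finset.mem_filter.1 hz).2
  have honly : ∀ y, f y = f x → y = x ∨ y = z := fun y hy => by
    by_contra hcon
    push Not at hcon
    have hsub : ({x, z, y} : Finset Ω) ⊆ Finset.univ.filter fun w => f w = f x := by
      intro w hw
      simp only [Finset.mem_insert, Finset.mem_singleton] at hw
      rcases hw with rfl | rfl | rfl <;> simp [hfz, hy]
    have := Finset.card_le_card hsub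
    rw [hA, Finset.card_eq_three.2 ⟨x, z, y, hzx.symm, hcon.1.symm, hcon.2.symm, rfl⟩] at this
    omega
  haveI : Nontrivial (Fin c) := Fin.nontrivial_iff_two_le.2 hc
  obtain ⟨i, hi⟩ := exists_ne (g x)
  obtain ⟨y, hy, hy'⟩ := big (g x) {x, z} (by rw [Finset.card_pair hzx.symm]; omega)
  obtain ⟨u, hu, hu'⟩ := big i {z} (by simp)
  obtain ⟨v, hv, hv'⟩ := big i {z, u} ((Finset.card_le_two).trans_lt (by omega))
  simp only [Finset.mem_insert, Finset.mem_singleton, not_or] at hy' hu' hv'
  refine ⟨swap x y * swap u v, (wr g).mul_mem (swap_mem hy.symm) (swap_mem (hu.trans hv.symm)), ?_, fun hw => ?_⟩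
  · rw [Perm.mem_alternatingGroup, map_mul, Perm.sign_swap (Ne.symm hy'.1), Perm.sign_swap (Ne.symm hv'.2)]
    decide
  · have hxu : x ≠ u := fun h => hi (by rw [← hu, h])
    have hxv : x ≠ v := fun h => hi (by rw [← hv, h])
    have h1 := (hw x z).1 hfz.symm
    rw [Perm.mul_apply, Perm.mul_apply, swap_apply_of_ne_of_ne hxu hxv, swap_apply_left,
      swap_apply_of_ne_of_ne (Ne.symm hu') (Ne.symm hv'.1), swap_apply_of_ne_of_ne hzx (Ne.symm hy'.2), hfz] at h1
    rcases honly y h1 with h | h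
    · exact hy'.1 h
    · exact hy'.2 h

theorem wr_conj (f : Ω → Fin b) (σ : Perm Ω) (g : Perm Ω) :
    g ∈ wr (f ∘ σ) ↔ σ * g * σ⁻¹ ∈ wr f := by
  constructor
  · intro h x y
    have := h (σ⁻¹ x) (σ⁻¹ y)
    simpa [Function.comp_apply, Perm.mul_apply] using this
  · intro h x y
    have := h (σ x) (σ y)
    simpa [Function.comp_apply, Perm.mul_apply] using this

end CfsgLib.Perm.Groups.SylowTwoMax
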