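import Cfsg.Agent.Lib.Perm.Groups.SylowTwoMax.Several

/-!
# Degree `2^k + 1`: a Sylow 2-subgroup lies in a unique maximal subgroup
-/

set_option autoImplicit false
set_option linter.all false

namespace CfsgLib.Perm.Groups.SylowTwoMax

open Equiv MulAction
open scoped Pointwise Nat

variable {Ω : Type*} [Fintype Ω] [DecidableEq Ω]

/-- two double transpositions meeting in one point give a three-cycle -/
theorem threeCycle_of_meet {x a b c d e f : Ω} (hxa : x ≠ a) (hxd : x ≠ d) (had : a ≠ d)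
    (hbc : Disjoint ({b, c} : Finset Ω) {x, a, d, e, f}) (hef : Disjoint ({e, f} : Finset Ω) {x, a, d, b, c}) :
    ((swap x a * swap b c) * (swap x d * swap e f) * ((swap x a * swap b c) * (swap x d * swap e f))).IsThreeCycle := by
  simp only [Finset.disjoint_left, Finset.mem_insert, Finset.mem_singleton, forall_eq_or_imp, forall_eq,
    not_or] at hbc hef
  obtain ⟨⟨hbx, hba, hbd, hbe, hbf⟩, hcx, hca, hcd, hce, hcf⟩ := hbc
  obtain ⟨⟨hex, hea, hed, -, -⟩, hfx, hfa, hfd, -, -⟩ := hef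
  have cm : ∀ {p q r s : Ω}, p ≠ r → p ≠ s → q ≠ r → q ≠ s → Commute (swap p q) (swap r s) := by
    intro p q r s h1 h2 h3 h4
    refine Equiv.ext fun z => ?_
    simp only [Perm.mul_apply, swap_apply_def]
    split_ifs <;> simp_all
  set A := swap x a with hA
  set B := swap b c with hB
  set D := swap x d with hD
  set E := swap e f with hE
  have BD : Commute B D := cm hbx hbd hcx hcd
  have BE : Commute B E := cm hbe hbf hce hcf
  have AB : Commute A B := (cm hbx hba hcx hca).symm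
  have AE : Commute A E := (cm hex hea hfx hfa).symm
  have DE : Commute D E := (cm hex hed hfx hfd).symm
  have h1 : A * B * (D * E) = A * D * (B * E) := by
    rw [mul_assoc, ← mul_assoc B D E, BD.eq, mul_assoc, ← mul_assoc A D]
  have hc : Commute (A * D) (B * E) := ((AB.mul_right AE).mul_left ((BD.symm).mul_right DE))
  have h2 : B * E * (B * E) = 1 := by
    rw [show B * E * (B * E) = B * (E * B) * E by group, ← BE.eq,
      show B * (B * E) * E = (B * B) * (E * E) by group, hB, hE, swap_mul_self, swap_mul_self, one_mul]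
  rw [h1, hc.symm.mul_mul_mul_comm, h2, mul_one]
  exact (Perm.isThreeCycle_swap_mul_swap_same hxa hxd had).isThreeCycle_sq

theorem exists_big_cycle (h : 2 ≤ Fintype.card Ω - 1) :
    ∃ c : Perm Ω, c.IsCycle ∧ c.support.card = Fintype.card Ω - 1 := by
  obtain ⟨w⟩ : Nonempty Ω := Fintype.card_pos_iff.1 (by omega)
  let e : Fin (Fintype.card Ω - 1) ≃ {z : Ω // z ≠ w} :=
    (Fintype.equivFinOfCardEq (by rw [Fintype.card_subtype_compl, Fintype.card_subtype_eq])).symm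
  refine ⟨(finRotate _).extendDomain e, (isCycle_finRotate_of_le h).extendDomain e, ?_⟩
  rw [Perm.card_support_extend_domain, support_finRotate_of_le h, Finset.card_univ, Fintype.card_fin]

theorem exists_conj_mem (R : Sylow 2 (Perm Ω)) {g : Perm Ω} {k : ℕ} (hg : orderOf g = 2 ^ k) :
    ∃ h : Perm Ω, h * g * h⁻¹ ∈ (R : Subgroup (Perm Ω)) := by
  have hp : IsPGroup 2 (Subgroup.zpowers g) := IsPGroup.of_card (n := k) (by rw [Nat.card_zpowers, hg])
  obtain ⟨Q, hQ⟩ := hp.exists_le_sylow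
  obtain ⟨h, rfl⟩ := MulAction.exists_smul_eq (Perm Ω) Q R
  refine ⟨h, ?_⟩
  rw [Sylow.coe_subgroup_smul]
  exact ⟨g, hQ (Subgroup.mem_zpowers g), rfl⟩

/-- the data attached to a Sylow 2-subgroup in degree `2^k + 1` -/
theorem sylow_data {a : ℕ} (ha : 2 ≤ a) (hn : Fintype.card Ω = 2 ^ a + 1) (R : Sylow 2 (Perm Ω)) :
    ∃ ω : Ω, (∀ r ∈ (R : Subgroup (Perm Ω)), r ω = ω) ∧
      (∀ x, x ≠ ω → ∃ y, y ≠ ω ∧ y ≠ x ∧ swap x y ∈ (R : Subgroup (Perm Ω))) ∧
      (∀ x y z, x ≠ y → x ≠ z → swap x y ∈ (R : Subgroup (Perm Ω)) → swap x z ∈ (R : Subgroup (Perm Ω)) → y = z) ∧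
      (∀ x y, x ≠ ω → y ≠ ω → ∃ r ∈ (R : Subgroup (Perm Ω)), r ∈ alternatingGroup Ω ∧ r x = y) := by
  have h4 : 4 ≤ 2 ^ a := by
    calc 4 = 2 ^ 2 := rfl
      _ ≤ 2 ^ a := Nat.pow_le_pow_right two_pos ha
  have hodd : ¬ 2 ∣ Nat.card Ω := by
    rw [Nat.card_eq_fintype_card, hn]
    have : 2 ∣ 2 ^ a := dvd_pow_self 2 (by omega)
    omega
  obtain ⟨ω, hω⟩ := R.isPGroup'.nonempty_fixed_point_of_prime_not_dvd_card Ω hodd
  have hfix : ∀ r ∈ (R : Subgroup (Perm Ω)), r ω = ω := fun r hr => hω ⟨r, hr⟩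
  have hun : ∀ x y z, x ≠ y → x ≠ z → swap x y ∈ (R : Subgroup (Perm Ω)) → swap x z ∈ (R : Subgroup (Perm Ω)) → y = z := by
    intro x y z hxy hxz h1 h2
    by_contra hne
    have h3 := (Perm.isThreeCycle_swap_mul_swap_same hxy hxz hne).orderOf
    obtain ⟨k, hk⟩ := R.isPGroup' ⟨_, Subgroup.mul_mem _ h1 h2⟩
    have h5 : orderOf (swap x y * swap x z) ∣ 2 ^ k := orderOf_dvd_of_pow_eq_one (congrArg Subtype.val hk)
    rw [h3] at h5
    have := Nat.prime_three.dvd_of_dvd_pow h5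
    omega
  obtain ⟨c₀, hc₀, hc₀s⟩ := exists_big_cycle (Ω := Ω) (by omega)
  obtain ⟨h, hc⟩ := exists_conj_mem R (g := c₀) (k := a) (by rw [hc₀.orderOf, hc₀s, hn]; omega)
  set c := h * c₀ * h⁻¹ with hcdef
  have hcs : c.support = Finset.univ.erase ω := by
    refine Finset.eq_of_subset_of_card_le (fun z hz => Finset.mem_erase.2 ⟨fun e => ?_, Finset.mem_univ _⟩) ?_
    · exact Perm.mem_support.1 hz (e ▸ hfix c hc)
    · rw [Finset.card_erase_of_mem (Finset.mem_univ _), Finset.card_univ, hcdef, Perm.card_support_conj, hc₀s]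
  have hcc : c.IsCycle := hc₀.conj
  have hmove : ∀ x y, x ≠ ω → y ≠ ω → ∃ r ∈ (R : Subgroup (Perm Ω)), r x = y := fun x y hx hy => by
    obtain ⟨i, hi⟩ := hcc.exists_zpow_eq (x := x) (y := y)
      (Perm.mem_support.1 (hcs ▸ Finset.mem_erase.2 ⟨hx, Finset.mem_univ _⟩))
      (Perm.mem_support.1 (hcs ▸ Finset.mem_erase.2 ⟨hy, Finset.mem_univ _⟩))
    exact ⟨c ^ i, Subgroup.zpow_mem _ hc i, hi⟩
  have hpart : ∀ x, x ≠ ω → ∃ y, y ≠ ω ∧ y ≠ x ∧ swap x y ∈ (R : Subgroup (Perm Ω)) := by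
    obtain ⟨u₀, v₀, huv₀⟩ := Fintype.exists_pair_of_one_lt_card (α := Ω) (by omega)
    obtain ⟨h', ht⟩ := exists_conj_mem R (g := swap u₀ v₀) (k := 1)
      (by rw [(show Perm.IsSwap (swap u₀ v₀) from ⟨u₀, v₀, huv₀, rfl⟩).orderOf]; rfl)
    rw [← Equiv.swap_apply_apply h' u₀ v₀] at ht
    have huv : h' u₀ ≠ h' v₀ := fun e => huv₀ (h'.injective e)
    generalize h' u₀ = u at ht huv
    generalize h' v₀ = v at ht huv
    have hu : u ≠ ω := fun e => huv (by
      have h1 := hfix _ ht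
      rw [← e, swap_apply_left] at h1
      exact h1.symm)
    have hv : v ≠ ω := fun e => huv (by
      have h1 := hfix _ ht
      rw [← e, swap_apply_right] at h1
      exact h1)
    intro x hx
    obtain ⟨r, hr, hrx⟩ := hmove u x hu hx
    refine ⟨r v, fun e => hv ?_, fun e => huv ?_, ?_⟩
    · exact r.injective (e.trans (hfix r hr).symm)
    · exact r.injective (hrx.trans e.symm)
    · rw [← hrx, Equiv.swap_apply_apply]
      exact Subgroup.mul_mem _ (Subgroup.mul_mem _ hr ht) (Subgroup.inv_mem _ hr)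
  refine ⟨ω, hfix, hpart, hun, fun x y hx hy => ?_⟩
  obtain ⟨r, hr, hrx⟩ := hmove x y hx hy
  rcases Int.units_eq_one_or (Perm.sign r) with hs | hs
  · exact ⟨r, hr, Perm.mem_alternatingGroup.2 hs, hrx⟩
  · obtain ⟨p, -, hpx, hp⟩ := hpart x hx
    obtain ⟨z, hz⟩ : ∃ z, z ∉ ({x, p, ω} : Finset Ω) := by
      by_contra hcon
      push Not at hcon
      have h1 : ({x, p, ω} : Finset Ω).card ≤ 3 := Finset.card_le_three
      rw [Finset.eq_univ_iff_forall.2 hcon, Finset.card_univ] at h1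
      omega
    simp only [Finset.mem_insert, Finset.mem_singleton, not_or] at hz
    obtain ⟨q, hqω, hqz, hq⟩ := hpart z hz.2.2
    have hxq : x ≠ q := fun e => hz.2.1 (by
      subst e
      exact (hun x p z hpx.symm (Ne.symm hz.1) hp (swap_comm z x ▸ hq)).symm)
    refine ⟨r * swap z q, Subgroup.mul_mem _ hr hq, ?_, ?_⟩
    · rw [Perm.mem_alternatingGroup, map_mul, hs, Perm.sign_swap (Ne.symm hqz)]; rfl
    · rw [Perm.mul_apply, swap_apply_of_ne_of_ne (Ne.symm hz.1) hxq, hrx]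

/-- a subgroup moving the fixed point is primitive -/
theorem primitive_of_moving {ω : Ω} {S : Subgroup (Perm Ω)} (hfix : ∀ r ∈ S, r ω = ω)
    (hmove : ∀ x y, x ≠ ω → y ≠ ω → ∃ r ∈ S, r x = y) {K : Subgroup (Perm Ω)} (hS : S ≤ K)
    {m : Perm Ω} (hm : m ∈ K) (hmω : m ω ≠ ω) : IsPreprimitive K Ω := by
  haveI : IsPretransitive K Ω := by
    rw [isPretransitive_iff_base ω]
    intro y
    rcases eq_or_ne y ω with rfl | hy
    · exact ⟨1, one_smul _ _⟩
    · obtain ⟨r, hr, hry⟩ := hmove _ y hmω hy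
      exact ⟨⟨r * m, K.mul_mem (hS hr) hm⟩, hry⟩
  refine IsPreprimitive.of_isTrivialBlock_base ω fun {B} hB hBb => ?_
  by_cases h : ∃ x ∈ B, x ≠ ω
  · obtain ⟨x, hx, hxω⟩ := h
    refine Or.inr (Set.eq_univ_iff_forall.2 fun y => ?_)
    rcases eq_or_ne y ω with rfl | hy
    · exact hB
    · obtain ⟨r, hr, hrx⟩ := hmove x y hxω hy
      have h1 : (⟨r, hS hr⟩ : K) • B = B :=
        hBb.smul_eq_of_mem hB (show r ω ∈ B by rw [hfix r hr]; exact hB)
      have h2 : (⟨r, hS hr⟩ : K) • x ∈ (⟨r, hS hr⟩ : K) • B := Set.smul_mem_smul_set hx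
      rw [h1] at h2
      exact hrx ▸ h2
  · push Not at h
    exact Or.inl fun y hy z hz => (h y hy).trans (h z hz).symm

theorem uniqMax_perm {a : ℕ} (ha : 2 ≤ a) (hn : Fintype.card Ω = 2 ^ a + 1) (R : Sylow 2 (Perm Ω)) :
    UniqMax (R : Subgroup (Perm Ω)) := by
  have h4 : 4 ≤ 2 ^ a := by
    calc 4 = 2 ^ 2 := rfl
      _ ≤ 2 ^ a := Nat.pow_le_pow_right two_pos ha
  obtain ⟨ω, hfix, hpart, -, hmove⟩ := sylow_data ha hn R
  have hmem : ∀ g : Perm Ω, g ∈ stabilizer (Perm Ω) (({ω} : Finset Ω) : Set Ω) ↔ g ω = ω := by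
    intro g
    rw [mem_stab]
    constructor
    · intro h
      have := (h ω).2 (Finset.mem_singleton_self ω)
      simpa using this
    · intro h w
      simp only [Finset.mem_singleton, Perm.smul_def]
      exact ⟨fun e => g.injective (e.trans h.symm), fun e => e ▸ h⟩
  refine ⟨stabilizer (Perm Ω) (({ω} : Finset Ω) : Set Ω),
    ⟨(stab_coatom {ω} (by simp) (by simp; omega) (by simp; omega)).1, fun r hr => (hmem r).2 (hfix r hr)⟩, ?_⟩
  rintro M ⟨hM, hRM⟩
  by_cases h : ∀ m ∈ M, m ω = ω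
  · refine ((hM.le_iff.1 (fun m hm => (hmem m).2 (h m hm))).resolve_left ?_).symm
    exact (stab_coatom {ω} (by simp) (by simp; omega) (by simp; omega)).1.1
  · push Not at h
    obtain ⟨m, hm, hmω⟩ := h
    have hprim := primitive_of_moving hfix
      (fun x y hx hy => by obtain ⟨r, hr, -, hrx⟩ := hmove x y hx hy; exact ⟨r, hr, hrx⟩) hRM hm hmω
    obtain ⟨x, hx⟩ := Fintype.exists_ne_of_one_lt_card (by omega : 1 < Fintype.card Ω) ω
    obtain ⟨y, -, hyx, hy⟩ := hpart x hx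
    exact absurd (Perm.subgroup_eq_top_of_isPreprimitive_of_isSwap_mem hprim _
      ⟨x, y, hyx.symm, rfl⟩ (hRM hy)) hM.1

/-- a primitive group containing the double transpositions of a Sylow 2-subgroup is large -/
theorem alt_le_of_pairs {ω : Ω} {S : Subgroup (Perm Ω)} (h9 : 9 ≤ Fintype.card Ω)
    (hfix : ∀ r ∈ S, r ω = ω)
    (hpart : ∀ x, x ≠ ω → ∃ y, y ≠ ω ∧ y ≠ x ∧ swap x y ∈ S)
    (hun : ∀ x y z, x ≠ y → x ≠ z → swap x y ∈ S → swap x z ∈ S → y = z)
    {K : Subgroup (Perm Ω)} (hK : IsPreprimitive K Ω)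
    (hd : ∀ u v u' v', u ≠ v → u' ≠ v' → swap u v ∈ S → swap u' v' ∈ S → swap u v * swap u' v' ∈ K) :
    alternatingGroup Ω ≤ K := by
  obtain ⟨q, hq⟩ := Classical.axiomOfChoice (fun x : {x : Ω // x ≠ ω} => hpart x.1 x.2)
  let p : Ω → Ω := fun x => if h : x = ω then ω else q ⟨x, h⟩
  have hp : ∀ x, x ≠ ω → p x ≠ ω ∧ p x ≠ x ∧ swap x (p x) ∈ S := fun x hx => by
    simp only [p, dif_neg hx]; exact hq ⟨x, hx⟩
  have hpω : ∀ x y, x ≠ ω → y ≠ ω → y = p x → p y = x := fun x y hx hy e => by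
    subst e
    exact hun _ _ _ (hp _ hy).2.1.symm (hp x hx).2.1 (hp _ hy).2.2 (swap_comm x (p x) ▸ (hp x hx).2.2)
  -- a double transposition in `S`
  obtain ⟨x₁, hx₁⟩ := Fintype.exists_ne_of_one_lt_card (by omega : 1 < Fintype.card Ω) ω
  obtain ⟨hy₁ω, hy₁, hs₁⟩ := hp x₁ hx₁
  obtain ⟨x₂, hx₂⟩ : ∃ z, z ∉ ({x₁, p x₁, ω} : Finset Ω) := by
    by_contra hcon
    push Not at hcon
    have h1 : ({x₁, p x₁, ω} : Finset Ω).card ≤ 3 := Finset.card_le_three
    rw [Finset.eq_univ_iff_forall.2 hcon, Finset.card_univ] at h1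
    omega
  simp only [Finset.mem_insert, Finset.mem_singleton, not_or] at hx₂
  obtain ⟨-, hy₂, hs₂⟩ := hp x₂ hx₂.2.2
  haveI := hK.toIsPretransitive
  obtain ⟨⟨g, hg⟩, hgx⟩ := exists_smul_eq K x₁ ω
  have hgx' : g x₁ = ω := hgx
  have hsK : g * (swap x₁ (p x₁) * swap x₂ (p x₂)) * g⁻¹ ∈ K :=
    K.mul_mem (K.mul_mem hg (hd _ _ _ _ hy₁.symm hy₂.symm hs₁ hs₂)) (K.inv_mem hg)
  have hsK' : swap ω (g (p x₁)) * swap (g x₂) (g (p x₂)) ∈ K := by
    rw [← hgx', Equiv.swap_apply_apply, Equiv.swap_apply_apply]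
    convert! hsK using 1
    group
  have hpx₂ : p x₂ ≠ x₁ := fun e => hx₂.2.1 ((hpω x₂ x₁ hx₂.2.2 hx₁ e.symm).symm)
  have hpx₂' : p x₂ ≠ p x₁ := fun e => hx₂.1 (by
    have h1 := hpω x₂ (p x₁) hx₂.2.2 hy₁ω e.symm
    rw [← h1, hpω x₁ (p x₁) hx₁ hy₁ω rfl])
  have ha : g (p x₁) ≠ ω := fun e => hy₁ (g.injective (e.trans hgx'.symm))
  have hb : g x₂ ≠ ω := fun e => hx₂.1 (g.injective (e.trans hgx'.symm))
  have hc : g (p x₂) ≠ ω := fun e => hpx₂ (g.injective (e.trans hgx'.symm))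
  have hab : g (p x₁) ≠ g x₂ := fun e => hx₂.2.1 (g.injective e).symm
  have hac : g (p x₁) ≠ g (p x₂) := fun e => hpx₂' (g.injective e).symm
  have hbc : g x₂ ≠ g (p x₂) := fun e => hy₂ (g.injective e).symm
  generalize g (p x₁) = a at hsK' ha hab hac
  generalize g x₂ = b at hsK' hb hab hbc
  generalize g (p x₂) = c at hsK' hc hac hbc
  have hω0 : p ω = ω := by simp [p]
  have hpne : ∀ u v : Ω, u ≠ ω → v ≠ ω → u ≠ v → p u ≠ p v := fun u v hu hv huv e => huv
    (hun (p u) u v (hp u hu).2.1 (by rw [e]; exact (hp v hv).2.1) (by rw [swap_comm]; exact (hp u hu).2.2)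
      (by rw [e, swap_comm]; exact (hp v hv).2.2))
  -- the distinguished point has its partner outside
  have key : ∀ x a b c : Ω, x ≠ a → x ≠ b → x ≠ c → a ≠ b → a ≠ c → b ≠ c → x ≠ ω →
      (a = ω ∨ b = ω ∨ c = ω) →
      p x ≠ a → p x ≠ b → p x ≠ c → swap x a * swap b c ∈ K → alternatingGroup Ω ≤ K := by
    intro x a b c hxa hxb hxc hab hac hbc hxω hω hpa hpb hpc hs
    obtain ⟨e, he⟩ : ∃ e, e ∉ ([x, a, b, c, p x, p a, p b, p c].toFinset) := by
      by_contra hcon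
      push Not at hcon
      have h1 : ([x, a, b, c, p x, p a, p b, p c].toFinset).card ≤ 8 := List.toFinset_card_le _
      rw [Finset.eq_univ_iff_forall.2 hcon, Finset.card_univ] at h1
      omega
    simp only [List.mem_toFinset, List.mem_cons, List.not_mem_nil, or_false, not_or] at he
    obtain ⟨h1, h2, h3, h4, h5, h6, h7, h8⟩ := he
    have heω : e ≠ ω := by
      rcases hω with h | h | h <;> exact fun e' => by first | exact h2 (e'.trans h.symm) | exact h3 (e'.trans h.symm) | exact h4 (e'.trans h.symm)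
    obtain ⟨hfω, hfe, hfS⟩ := hp e heω
    obtain ⟨hdω, hdx, hdS⟩ := hp x hxω
    have off : ∀ u, e ≠ p u → p e ≠ u := fun u hu e' => by
      rcases eq_or_ne u ω with h | h
      · exact hfω (e'.trans h)
      · exact hu (hpω e u heω h e'.symm).symm
    have hfd : p e ≠ p x := hpne e x heω hxω h1
    have ht : swap x (p x) * swap e (p e) ∈ K := hd _ _ _ _ hdx.symm hfe.symm hdS hfS
    refine Perm.alternatingGroup_le_of_isPreprimitive_of_isThreeCycle_mem hK
      (threeCycle_of_meet hxa hdx.symm hpa.symm ?_ ?_) (K.mul_mem (K.mul_mem hs ht) (K.mul_mem hs ht))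
    · simp only [Finset.disjoint_left, Finset.mem_insert, Finset.mem_singleton, forall_eq_or_imp, forall_eq, not_or]
      exact ⟨⟨hxb.symm, hab.symm, hpb.symm, Ne.symm h3, (off b h7).symm⟩,
        hxc.symm, hac.symm, hpc.symm, Ne.symm h4, (off c h8).symm⟩
    · simp only [Finset.disjoint_left, Finset.mem_insert, Finset.mem_singleton, forall_eq_or_imp, forall_eq, not_or]
      exact ⟨⟨h1, h2, h5, h3, h4⟩, off x h5, off a h6, hfd, off b h7, off c h8⟩
  by_cases h : p a ≠ b ∧ p a ≠ c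
  · exact key a ω b c ha hab hac hb.symm hc.symm hbc ha (Or.inl rfl) (hp a ha).1 h.1 h.2 (swap_comm ω a ▸ hsK')
  · have hcomm : swap ω a * swap b c = swap b c * swap ω a := by
      refine Equiv.ext fun z => ?_
      simp only [Perm.mul_apply, swap_apply_def]
      split_ifs <;> simp_all
    rcases eq_or_ne (p a) b with hpab | hpab
    · have hpb : p b = a := hpω a b ha hb hpab.symm
      refine key c b ω a hbc.symm hc hac.symm hb hab.symm ha.symm hc (Or.inr (Or.inl rfl)) (fun e => hac ?_) (hp c hc).1 (fun e => hbc ?_) ?_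
      · rw [← hpω c b hc hb e.symm, hpb]
      · rw [← hpω c a hc ha e.symm, hpab]
      · rw [swap_comm c b, ← hcomm]; exact hsK'
    · have hpac : p a = c := by
        by_contra hh
        exact h ⟨hpab, hh⟩
      have hpc : p c = a := hpω a c ha hc hpac.symm
      refine key b c ω a hbc hb hab.symm hc hac.symm ha.symm hb (Or.inr (Or.inl rfl)) (fun e => hab ?_) (hp b hb).1 (fun e => hbc.symm ?_) ?_
      · rw [← hpω b c hb hc e.symm, hpc]
      · rw [← hpω b a hb ha e.symm, hpac]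
      · rw [← hcomm]; exact hsK'
end CfsgLib.Perm.Groups.SylowTwoMax
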