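import Cfsg.Agent.Lib.Perm.Groups.SylowTwoMax.Basic
import Cfsg.Agent.Lib.Perm.Groups.PartitionStab

/-!
# Sylow 2-subgroups in several maximal subgroups
-/

set_option autoImplicit false
set_option linter.all false

namespace CfsgLib.Perm.Groups.SylowTwoMax

open Equiv MulAction
open scoped Pointwise Nat
open CfsgLib.Perm.Groups.PartitionAlt

theorem conj_ne {G : Type*} [Group G] {M₁ M₂ : Subgroup G} (h : ∀ k : G, ∃ x ∈ M₂, k * x * k⁻¹ ∉ M₁) (g l : G) :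
    M₁.map (MulAut.conj g).toMonoidHom ≠ M₂.map (MulAut.conj l).toMonoidHom := by
  intro he
  obtain ⟨x, hx, hx'⟩ := h (g⁻¹ * l)
  have h1 : (MulAut.conj l).toMonoidHom x ∈ M₁.map (MulAut.conj g).toMonoidHom := he ▸ Subgroup.mem_map_of_mem _ hx
  obtain ⟨y, hy, hy'⟩ := h1
  refine hx' ?_
  have h2 : g * y * g⁻¹ = l * x * l⁻¹ := by simpa using hy'
  have h3 : g⁻¹ * l * x * (g⁻¹ * l)⁻¹ = y := by
    rw [show g⁻¹ * l * x * (g⁻¹ * l)⁻¹ = g⁻¹ * (l * x * l⁻¹) * g by group, ← h2]; group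
  rwa [h3]

theorem odd_choose_aux (r : ℕ) : ∀ d : ℕ, Odd ((2 ^ d * (2 * r + 1)).choose (2 ^ d))
  | 0 => by simp
  | d + 1 => by
    haveI : Fact (Nat.Prime 2) := ⟨Nat.prime_two⟩
    have h := Choose.choose_modEq_choose_mod_mul_choose_div_nat (p := 2) (n := 2 ^ (d + 1) * (2 * r + 1)) (k := 2 ^ (d + 1))
    have e1 : 2 ^ (d + 1) * (2 * r + 1) = 2 * (2 ^ d * (2 * r + 1)) := by ring
    have e2 : 2 ^ (d + 1) = 2 * 2 ^ d := by ring
    rw [e1, e2, Nat.mul_mod_right, Nat.mul_mod_right, Nat.choose_self, one_mul, Nat.mul_div_cancel_left _ two_pos,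
      Nat.mul_div_cancel_left _ two_pos] at h
    rw [e1, e2, Nat.odd_iff]
    exact Eq.trans h (Nat.odd_iff.1 (odd_choose_aux r d))

theorem odd_choose (r c : ℕ) : Odd ((2 ^ (c + 1) * (2 * r + 1) + 1).choose (2 ^ (c + 1))) := by
  haveI : Fact (Nat.Prime 2) := ⟨Nat.prime_two⟩
  have h := Choose.choose_modEq_choose_mod_mul_choose_div_nat (p := 2) (n := 2 ^ (c + 1) * (2 * r + 1) + 1) (k := 2 ^ (c + 1))
  have e1 : 2 ^ (c + 1) * (2 * r + 1) + 1 = 1 + 2 * (2 ^ c * (2 * r + 1)) := by ring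
  have e2 : 2 ^ (c + 1) = 2 * 2 ^ c := by ring
  rw [e1, e2, Nat.add_mul_mod_self_left, Nat.mul_mod_right, Nat.add_mul_div_left _ _ two_pos,
    Nat.mul_div_cancel_left _ two_pos] at h
  rw [e1, e2, Nat.odd_iff]
  refine Eq.trans h ?_
  rw [← Nat.odd_iff]
  simpa using odd_choose_aux r c

theorem exists_two_power_odd {m : ℕ} (hm : m ≠ 0) : ∃ c r : ℕ, m = 2 ^ c * (2 * r + 1) := by
  induction m using Nat.strong_induction_on with
  | _ m ih =>
    rcases Nat.even_or_odd m with ⟨j, hj⟩ | ⟨j, hj⟩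
    · obtain ⟨c, r, hcr⟩ := ih j (by omega) (by omega)
      exact ⟨c + 1, r, by rw [hj, hcr, pow_succ]; ring⟩
    · exact ⟨0, j, by omega⟩

/-- the possible shapes of degrees that are not `2^k + 1` -/
theorem degree_cases {n : ℕ} (h5 : 5 ≤ n) (hform : ¬ ∃ k, 2 ≤ k ∧ n = 2 ^ k + 1) :
    (∃ b, n = 4 * b ∧ 2 ≤ b) ∨ (∃ b, n = 2 * b ∧ 3 ≤ b ∧ Odd (n.choose 2)) ∨
    (∃ k, 2 ≤ k ∧ k + 2 ≤ n ∧ n ≠ 2 * k ∧ Odd n ∧ Odd (n.choose k)) := by
  rcases Nat.even_or_odd n with ⟨j, hj⟩ | hodd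
  · rcases Nat.even_or_odd j with ⟨i, hi⟩ | ⟨i, hi⟩
    · exact Or.inl ⟨i, by omega, by omega⟩
    · refine Or.inr (Or.inl ⟨j, by omega, by omega, ?_⟩)
      have := odd_choose_aux i 1
      rwa [show n = 2 ^ 1 * (2 * i + 1) by omega]
  · obtain ⟨c, r, hcr⟩ := exists_two_power_odd (m := n - 1) (by omega)
    have hc : c ≠ 0 := by
      rintro rfl
      obtain ⟨j, hj⟩ := hodd
      simp at hcr
      omega
    obtain ⟨d, rfl⟩ := Nat.exists_eq_succ_of_ne_zero hc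
    simp only [Nat.succ_eq_add_one] at hcr
    have hr : r ≠ 0 := by
      rintro rfl
      refine hform ⟨d + 1, ?_, by simp at hcr; omega⟩
      rcases Nat.eq_zero_or_pos d with rfl | h
      · simp at hcr; omega
      · omega
    have h3 : 2 ^ (d + 1) * 3 ≤ 2 ^ (d + 1) * (2 * r + 1) := Nat.mul_le_mul_left _ (by omega)
    have h2 : 2 ≤ 2 ^ (d + 1) := by
      have := Nat.one_le_two_pow (n := d)
      rw [pow_succ]; omega
    refine Or.inr (Or.inr ⟨2 ^ (d + 1), h2, by omega, by omega, hodd, ?_⟩)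
    have := odd_choose r d
    rwa [show n = 2 ^ (d + 1) * (2 * r + 1) + 1 by omega]

variable {Ω : Type*} [Fintype Ω] [DecidableEq Ω]

theorem fibre_comp {b a : ℕ} (f : Ω → Fin b) (σ : Perm Ω) (hf : ∀ i, Nat.card {x : Ω // f x = i} = a) (i : Fin b) :
    Nat.card {x : Ω // (f ∘ σ) x = i} = a := by
  rw [← hf i]
  exact Nat.card_congr (σ.subtypeEquiv (fun x => Iff.rfl))

/-- an even element of a transitive partition stabiliser moving a set -/
theorem exists_moving {b a : ℕ} (f : Ω → Fin b) (ha : 2 ≤ a) (hb : 2 ≤ b)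
    (hf : ∀ i, Nat.card {x : Ω // f x = i} = a) (s : Finset Ω) (h0 : s.Nonempty) (h1 : s ≠ Finset.univ)
    (k : Perm Ω) : ∃ x ∈ wr f, x ∈ alternatingGroup Ω ∧ ¬ ∀ w, (k * x * k⁻¹) • w ∈ s ↔ w ∈ s := by
  obtain ⟨u, hu⟩ := h0
  obtain ⟨v, hv⟩ : ∃ v, v ∉ s := by
    by_contra h
    push Not at h
    exact h1 (Finset.eq_univ_iff_forall.2 h)
  obtain ⟨x, hx, hxA, hxu, -⟩ := exists_even_lift f ha hb hf (swap (f (k⁻¹ u)) (f (k⁻¹ v)))
    (x := k⁻¹ u) (y := k⁻¹ v) (swap_apply_left _ _)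
  refine ⟨x, hx, hxA, fun h => hv ?_⟩
  have h2 := (h u).2 hu
  have h3 : (k * x * k⁻¹) • u = v := by
    show k (x (k⁻¹ u)) = v
    rw [hxu]; exact k.apply_symm_apply v
  rwa [h3] at h2

/-- an even element preserving a set and moving a given point -/
theorem exists_moving_point (s : Finset Ω) (h1 : 2 ≤ s.card) (h2 : s.card + 2 ≤ Fintype.card Ω) (w : Ω) :
    ∃ x : Perm Ω, (∀ z, x z ∈ s ↔ z ∈ s) ∧ x ∈ alternatingGroup Ω ∧ x w ≠ w := by
  have key : ∀ A B : Finset Ω, Disjoint A B → 2 ≤ A.card → 2 ≤ B.card → w ∈ A → (∀ z, z ∈ A ∨ z ∈ B) →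
      ∃ x : Perm Ω, (∀ z, x z ∈ A ↔ z ∈ A) ∧ x ∈ alternatingGroup Ω ∧ x w ≠ w := by
    intro A B hAB hA hB hw hcov
    obtain ⟨w', hw', hww⟩ := Finset.exists_mem_ne (by omega : 1 < A.card) w
    obtain ⟨p, hp, q, hq, hpq⟩ := Finset.one_lt_card.1 (by omega : 1 < B.card)
    have hd : ∀ y ∈ B, y ∉ A := fun y hy hy' => Finset.disjoint_left.1 hAB hy' hy
    refine ⟨swap w w' * swap p q, fun z => ?_, ?_, ?_⟩
    · rw [Perm.mul_apply, swap_apply_def p q z]
      split_ifs with e1 e2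
      · subst e1
        rw [swap_apply_of_ne_of_ne (fun h : q = w => hd q hq (h ▸ hw)) (fun h : q = w' => hd q hq (h ▸ hw'))]
        exact iff_of_false (hd q hq) (hd _ hp)
      · subst e2
        rw [swap_apply_of_ne_of_ne (fun h : p = w => hd p hp (h ▸ hw)) (fun h : p = w' => hd p hp (h ▸ hw'))]
        exact iff_of_false (hd p hp) (hd _ hq)
      · rw [swap_apply_def w w' z]
        split_ifs with e3 e4
        · subst e3; exact iff_of_true hw' hw
        · subst e4; exact iff_of_true hw hw'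
        · rfl
    · rw [Perm.mem_alternatingGroup, map_mul, Perm.sign_swap hww.symm, Perm.sign_swap hpq]
      decide
    · rw [Perm.mul_apply, swap_apply_of_ne_of_ne (fun h : w = p => hd p hp (h ▸ hw))
        (fun h : w = q => hd q hq (h ▸ hw)), swap_apply_left]
      exact hww
  have hc : 2 ≤ sᶜ.card := by rw [Finset.card_compl]; omega
  by_cases hw : w ∈ s
  · exact key s sᶜ disjoint_compl_right h1 hc hw (fun z => by rw [Finset.mem_compl]; exact em _)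
  · obtain ⟨x, hx, hA, hm⟩ := key sᶜ s disjoint_compl_left hc h1 (Finset.mem_compl.2 hw)
      (fun z => by rw [Finset.mem_compl]; exact (em _).symm)
    exact ⟨x, fun z => by have := hx z; simp only [Finset.mem_compl] at this; exact not_iff_not.1 this, hA, hm⟩

theorem exists_card (k : ℕ) (hk : k ≤ Fintype.card Ω) : ∃ s : Finset Ω, s.card = k := by
  obtain ⟨s, -, hs⟩ := Finset.exists_subset_card_eq (s := (Finset.univ : Finset Ω)) (n := k) (by simpa using hk)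
  exact ⟨s, hs⟩

theorem stab_coatom (s : Finset Ω) (h0 : 0 < s.card) (h1 : s.card < Fintype.card Ω) (h2 : Fintype.card Ω ≠ 2 * s.card) :
    IsCoatom (stabilizer (Perm Ω) (s : Set Ω)) ∧ IsCoatom (stabilizer (alternatingGroup Ω) (s : Set Ω)) := by
  have e0 : (s : Set Ω).Nonempty := Finset.coe_nonempty.2 (Finset.card_pos.1 h0)
  have e1 : (s : Set Ω)ᶜ.Nonempty := by
    rw [← Finset.coe_compl, Finset.coe_nonempty, ← Finset.card_pos, Finset.card_compl]; omega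
  have e2 : Nat.card Ω ≠ 2 * (s : Set Ω).ncard := by
    rwa [Set.ncard_coe_finset, Nat.card_eq_fintype_card]
  exact ⟨Equiv.Perm.isCoatom_stabilizer e0 e1 e2, alternatingGroup.isCoatom_stabilizer e0 e1 e2⟩

theorem stab_alt_eq (s : Set Ω) :
    stabilizer (alternatingGroup Ω) s = (stabilizer (Perm Ω) s).subgroupOf (alternatingGroup Ω) :=
  Subgroup.ext fun _ => Iff.rfl

theorem mem_stab {g : Perm Ω} {s : Finset Ω} : g ∈ stabilizer (Perm Ω) (s : Set Ω) ↔ ∀ w, g • w ∈ s ↔ w ∈ s :=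
  mem_stabilizer_set

theorem partition_coatom {a b : ℕ} (ha : 2 ≤ a) (hb : 2 ≤ b) (f : Ω → Fin b) (hf : ∀ i, Nat.card {x : Ω // f x = i} = a) :
    IsCoatom (wr f) := by
  have h := CfsgLib.Perm.Groups.isCoatom_partitionStab a b ha hb f hf
  rwa [show Subgroup.closure {g : Perm Ω | ∀ x y : Ω, f x = f y ↔ f (g x) = f (g y)} = wr f from
    Subgroup.closure_eq (wr f)] at h

/-- two even elements separate the candidates -/
theorem two_maximals (h5 : 5 ≤ Fintype.card Ω) (hform : ¬ ∃ k, 2 ≤ k ∧ Fintype.card Ω = 2 ^ k + 1) :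
    ∃ K₁ K₂ : Subgroup (Perm Ω), IsCoatom K₁ ∧ IsCoatom K₂ ∧ Odd K₁.index ∧ Odd K₂.index ∧
      (Fintype.card Ω ≠ 8 → IsCoatom (K₁.subgroupOf (alternatingGroup Ω)) ∧
        IsCoatom (K₂.subgroupOf (alternatingGroup Ω))) ∧
      ∀ k : Perm Ω, ∃ x ∈ K₂, x ∈ alternatingGroup Ω ∧ k * x * k⁻¹ ∉ K₁ := by
  rcases degree_cases h5 hform with ⟨b, hn, hb⟩ | ⟨b, hn, hb, hodd⟩ | ⟨j, hj, hjn, hne, hoddn, hodd⟩
  · obtain ⟨f, hf⟩ := exists_blocks (Ω := Ω) 2 (2 * b) (by omega)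
    obtain ⟨g, hg⟩ := exists_blocks (Ω := Ω) 4 b (by omega)
    refine ⟨wr f, wr g, partition_coatom le_rfl (by omega) f hf, partition_coatom (by norm_num) hb g hg,
      index_wr_odd f 2 (by norm_num) hf (by rw [hn, show 4 * b = 2 * (2 * b) by ring]; exact val_pairs _),
      index_wr_odd g 4 (by norm_num) hg (by rw [hn]; exact val_quads _),
      fun h8 => ⟨isCoatom_inf_alternating' f 2 h8 le_rfl (by omega) hf,
        isCoatom_inf_alternating' g 4 h8 (by norm_num) hb hg⟩, fun k => ?_⟩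
    obtain ⟨x, hx, hxA, hx'⟩ := exists_even_sep (f ∘ k) g hb (fun i => fibre_comp f k hf i) hg
    exact ⟨x, hx, hxA, fun h => hx' ((wr_conj f k x).2 h)⟩
  · obtain ⟨s, hs⟩ := exists_card (Ω := Ω) 2 (by omega)
    obtain ⟨f, hf⟩ := exists_blocks (Ω := Ω) 2 b hn
    obtain ⟨c1, c2⟩ := stab_coatom s (by omega) (by omega) (by omega)
    rw [stab_alt_eq] at c2
    refine ⟨stabilizer (Perm Ω) (s : Set Ω), wr f, c1, partition_coatom le_rfl (by omega) f hf,
      by rw [index_stab, hs]; exact hodd,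
      index_wr_odd f 2 (by norm_num) hf (by rw [hn]; exact val_pairs _),
      fun h8 => ⟨c2, isCoatom_inf_alternating' f 2 h8 le_rfl (by omega) hf⟩, fun k => ?_⟩
    obtain ⟨x, hx, hxA, hx'⟩ := exists_moving f le_rfl (by omega) hf s (Finset.card_pos.1 (by omega))
      (fun h => by rw [h, Finset.card_univ] at hs; omega) k
    exact ⟨x, hx, hxA, fun h => hx' (mem_stab.1 h)⟩
  · obtain ⟨s, hs⟩ := exists_card (Ω := Ω) 1 (by omega)
    obtain ⟨s', hs'⟩ := exists_card (Ω := Ω) j (by omega)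
    obtain ⟨c1, c2⟩ := stab_coatom s (by omega) (by omega) (by omega)
    obtain ⟨d1, d2⟩ := stab_coatom s' (by omega) (by omega) (by omega)
    rw [stab_alt_eq] at c2 d2
    refine ⟨stabilizer (Perm Ω) (s : Set Ω), stabilizer (Perm Ω) (s' : Set Ω), c1, d1,
      by rw [index_stab, hs, Nat.choose_one_right]; exact hoddn,
      by rw [index_stab, hs']; exact hodd, fun _ => ⟨c2, d2⟩, fun k => ?_⟩
    obtain ⟨w, rfl⟩ := Finset.card_eq_one.1 hs
    obtain ⟨x, hx, hxA, hxw⟩ := exists_moving_point s' (by omega) (by omega) (k⁻¹ w)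
    refine ⟨x, mem_stab.2 hx, hxA, fun h => hxw ?_⟩
    have h1 : k (x (k⁻¹ w)) = w := Finset.mem_singleton.1 ((mem_stab.1 h w).2 (Finset.mem_singleton_self w))
    exact k.injective (h1.trans (k.apply_symm_apply w).symm)
where
  isCoatom_inf_alternating' {b : ℕ} (f : Ω → Fin b) (a : ℕ) (h8 : Fintype.card Ω ≠ 8) (ha : 2 ≤ a) (hb : 2 ≤ b)
      (hf : ∀ i, Nat.card {x : Ω // f x = i} = a) :
      IsCoatom ((wr f).subgroupOf (alternatingGroup Ω)) := by
    have h := isCoatom_inf_alternating a h8 ha hb f hf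
    rwa [Subgroup.inf_subgroupOf_right] at h

theorem not_uniqMax_perm (h5 : 5 ≤ Fintype.card Ω) (hform : ¬ ∃ k, 2 ≤ k ∧ Fintype.card Ω = 2 ^ k + 1)
    (R : Sylow 2 (Perm Ω)) : ¬ UniqMax (R : Subgroup (Perm Ω)) := by
  obtain ⟨K₁, K₂, h₁, h₂, o₁, o₂, -, hsep⟩ := two_maximals h5 hform
  exact not_uniqMax_of_coatoms R h₁ h₂ o₁ o₂ (conj_ne fun k => by
    obtain ⟨x, hx, -, hx'⟩ := hsep k; exact ⟨x, hx, hx'⟩)

theorem not_uniqMax_alt (h5 : 5 ≤ Fintype.card Ω) (h8 : Fintype.card Ω ≠ 8)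
    (hform : ¬ ∃ k, 2 ≤ k ∧ Fintype.card Ω = 2 ^ k + 1)
    (R : Sylow 2 (alternatingGroup Ω)) : ¬ UniqMax (R : Subgroup (alternatingGroup Ω)) := by
  haveI : Nontrivial Ω := Fintype.one_lt_card_iff_nontrivial.1 (by omega)
  obtain ⟨K₁, K₂, -, -, o₁, o₂, hA, hsep⟩ := two_maximals h5 hform
  obtain ⟨h₁, h₂⟩ := hA h8
  exact not_uniqMax_of_coatoms R h₁ h₂ (by rw [alt_index_eq o₁]; exact o₁) (by rw [alt_index_eq o₂]; exact o₂)
    (conj_ne fun k => by
      obtain ⟨x, hx, hxA, hx'⟩ := hsep (k : Perm Ω)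
      exact ⟨⟨x, hxA⟩, hx, hx'⟩)

end CfsgLib.Perm.Groups.SylowTwoMax
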